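import Groth.Agent.FlatMor2.FibCrit.Fibre
import Groth.Agent.Flatmor4.FlatModAffine
import Groth.Agent.QCohMod.Pullback
import Groth.Prelude.Def_FlatMod2

/-!
# Flatness of a module on the fibre, in terms of local rings
-/

set_option autoImplicit false
set_option linter.style.haveILetI false

universe u

open AlgebraicGeometry CategoryTheory IsLocalRing TensorProduct Groth.QCohMod

namespace Groth.FlatMor2.RelFlatLocus

/-- Flatness of a module along an isomorphism of the rings acting. -/
theorem flat_ringEquiv_iff {A F N : Type u} [CommRing A] [CommRing F] (e : A ≃+* F) [AddCommGroup N]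
    [Module F N] [Module A N] (h : ∀ a (n : N), e a • n = a • n) :
    Module.Flat A N ↔ Module.Flat F N := by
  letI : Algebra A F := e.toRingHom.toAlgebra
  haveI : IsScalarTower A F N := IsScalarTower.of_algebraMap_smul h
  constructor
  · intro hf
    letI : Algebra F A := e.symm.toRingHom.toAlgebra
    haveI : IsScalarTower F A N := IsScalarTower.of_algebraMap_smul fun f n => by
      show e.symm f • n = f • n
      rw [← h, e.apply_symm_apply]
    haveI : Module.Flat F A := RingHom.Flat.of_bijective (f := e.symm.toRingHom) e.symm.bijective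
    exact Module.Flat.trans F A N
  · intro hf
    haveI : Module.Flat A F := RingHom.Flat.of_bijective (f := e.toRingHom) e.bijective
    exact Module.Flat.trans A F N

/-- Flatness of the reduced module, via any presentation of the quotient rings. -/
theorem flat_module_quot_square_iff {R R' F F' M : Type u} [CommRing R] [CommRing R'] [CommRing F]
    [CommRing F'] [Algebra R R'] [Algebra R' F'] [Algebra R F'] [IsScalarTower R R' F']
    [AddCommGroup M] [Module R M] [Module R' M] [IsScalarTower R R' M]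
    (π : R →+* F) (ψ : F →+* F') (hπ : Function.Surjective π)
    (hπ' : Function.Surjective (algebraMap R' F')) (J : Ideal R) (hJ : RingHom.ker π = J)
    (hJ' : RingHom.ker (algebraMap R' F') = J.map (algebraMap R R'))
    (h : ∀ r, ψ (π r) = algebraMap R F' r) :
    (letI := ψ.toAlgebra
     letI : Module F (F' ⊗[R'] M) := Module.compHom _ ψ
     Module.Flat F (F' ⊗[R'] M)) ↔ Module.Flat (R ⧸ J) (M ⧸ (J • ⊤ : Submodule R M)) := by
  let e : R ⧸ J ≃+* F := (Ideal.quotEquivOfEq hJ.symm).trans (RingHom.quotientKerEquivOfSurjective hπ)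
  have he : ∀ r, e (Ideal.Quotient.mk J r) = π r := fun r => rfl
  letI := ψ.toAlgebra
  letI : Module F (F' ⊗[R'] M) := Module.compHom _ ψ
  letI : Module (R ⧸ J) (F' ⊗[R'] M) := Module.compHom _ e.toRingHom
  rw [← flat_ringEquiv_iff (N := F' ⊗[R'] M) e (fun _ _ => rfl)]
  let e₀ : (R' ⧸ RingHom.ker (algebraMap R' F')) ≃ₐ[R'] F' :=
    Ideal.quotientKerAlgEquivOfSurjective (f := Algebra.ofId R' F') hπ'
  let eL : (F' ⊗[R'] M) ≃ₗ[R] M ⧸ (J • ⊤ : Submodule R M) :=
    (((TensorProduct.congr e₀.symm.toLinearEquiv (LinearEquiv.refl _ _)).trans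
      (TensorProduct.quotTensorEquivQuotSMul M _)).restrictScalars R).trans
      (((Submodule.Quotient.restrictScalarsEquiv R _).symm).trans
        (Submodule.quotEquivOfEq _ _ (by rw [hJ', Ideal.smul_restrictScalars, Submodule.restrictScalars_top])))
  have hs : ∀ (z : R ⧸ J) (m : F' ⊗[R'] M), eL (z • m) = z • eL m := by
    intro z m
    obtain ⟨r, rfl⟩ := Ideal.Quotient.mk_surjective z
    have h1 : (Ideal.Quotient.mk J r) • m = r • m := by
      show ψ (e (Ideal.Quotient.mk J r)) • m = r • m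
      rw [he, h, algebraMap_smul]
    rw [h1, map_smul, ← Ideal.Quotient.algebraMap_eq, algebraMap_smul]
  exact ⟨fun hf => haveI := hf; Groth.FlatMor2.FibCrit.flat_of_addEquiv eL.toAddEquiv hs,
    fun hf => haveI := hf; Groth.FlatMor2.FibCrit.flat_of_addEquiv eL.symm.toAddEquiv fun z m => eL.injective (by
      change eL (eL.symm (z • m)) = eL (z • eL.symm m)
      rw [hs, eL.apply_symm_apply, eL.apply_symm_apply])⟩

/-- Flatness at a point of the restriction of a module to the fibres is flatness of `F_x / m_s F_x`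
over `O_y / m_s O_y`. -/
theorem fiberMap_module_flat_iff {X Y S : Scheme.{u}} (f : X ⟶ Y) (g : Y ⟶ S) (s : S) (F : X.Modules)
    (z : (f ≫ g).fiber s) (x : X) (hx : (f ≫ g).fiberι s z = x) :
    letI := FlatMod.moduleStalkOver f F x
    FlatMod.IsFlatOverAt (MoreMor.fiberMap f g s) ((Scheme.Modules.pullback ((f ≫ g).fiberι s)).obj F) z ↔
      Module.Flat (Y.presheaf.stalk (f x) ⧸
          (maximalIdeal (S.presheaf.stalk (g (f x)))).map (g.stalkMap (f x)).hom)
        (F.presheaf.stalk x ⧸ ((maximalIdeal (S.presheaf.stalk (g (f x)))).map (g.stalkMap (f x)).hom •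
          (⊤ : Submodule (Y.presheaf.stalk (f x)) (F.presheaf.stalk x)))) := by
  subst hx
  letI := FlatMod.moduleStalkOver f F ((f ≫ g).fiberι s z)
  letI := (f.stalkMap ((f ≫ g).fiberι s z)).hom.toAlgebra
  letI := stalkAlg ((f ≫ g).fiberι s) z
  have hmap : MoreMor.fiberMap f g s ≫ g.fiberι s = (f ≫ g).fiberι s ≫ f :=
    Limits.pullback.lift_fst _ _ _
  have hw : g.fiberι s (MoreMor.fiberMap f g s z) = f ((f ≫ g).fiberι s z) := by
    rw [← Scheme.Hom.comp_apply, hmap]; rfl
  obtain ⟨h1, h2⟩ := Groth.FlatMor2.FibCrit.fiber_stalk_of_eq g s _ _ hw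
  obtain ⟨h3, h4⟩ := Groth.Agent.S9501.result (f ≫ g) s z
  have hc := Scheme.Hom.stalkMap_congr_hom _ _ hmap z
  rw [Scheme.Hom.stalkMap_comp, Scheme.Hom.stalkMap_comp] at hc
  have key : ((Y.presheaf.stalkCongr (.of_eq hw)).inv ≫
      (g.fiberι s).stalkMap (MoreMor.fiberMap f g s z)) ≫ (MoreMor.fiberMap f g s).stalkMap z =
      f.stalkMap ((f ≫ g).fiberι s z) ≫ ((f ≫ g).fiberι s).stalkMap z := by
    rw [Category.assoc, Iso.inv_comp_eq]
    exact hc
  letI : Algebra (Y.presheaf.stalk (f ((f ≫ g).fiberι s z))) (((f ≫ g).fiber s).presheaf.stalk z) :=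
    (((f ≫ g).fiberι s).stalkMap z).hom.comp (f.stalkMap ((f ≫ g).fiberι s z)).hom |>.toAlgebra
  haveI : IsScalarTower (Y.presheaf.stalk (f ((f ≫ g).fiberι s z)))
      (X.presheaf.stalk ((f ≫ g).fiberι s z)) (((f ≫ g).fiber s).presheaf.stalk z) :=
    IsScalarTower.of_algebraMap_eq' rfl
  haveI : IsScalarTower (Y.presheaf.stalk (f ((f ≫ g).fiberι s z)))
      (X.presheaf.stalk ((f ≫ g).fiberι s z)) (F.presheaf.stalk ((f ≫ g).fiberι s z)) :=
    IsScalarTower.of_algebraMap_smul fun _ _ => rfl
  refine Iff.trans ?_ (flat_module_quot_square_iff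
    ((Y.presheaf.stalkCongr (.of_eq hw)).inv ≫ (g.fiberι s).stalkMap _).hom
    ((MoreMor.fiberMap f g s).stalkMap z).hom h1 h3 _ h2
    (by rw [RingHom.algebraMap_toAlgebra, h4, Scheme.Hom.stalkMap_comp]; exact (Ideal.map_map _ _).symm)
    (fun r => congr($(key) r)))
  let p := pullStalkEquiv ((f ≫ g).fiberι s) F z
  letI := FlatMod.moduleStalkOver (MoreMor.fiberMap f g s) ((Scheme.Modules.pullback ((f ≫ g).fiberι s)).obj F) z
  letI : Module ((g.fiber s).presheaf.stalk (MoreMor.fiberMap f g s z))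
      (((f ≫ g).fiber s).presheaf.stalk z ⊗[X.presheaf.stalk ((f ≫ g).fiberι s z)]
        F.presheaf.stalk ((f ≫ g).fiberι s z)) :=
    Module.compHom _ ((MoreMor.fiberMap f g s).stalkMap z).hom
  unfold FlatMod.IsFlatOverAt
  exact ⟨fun hf => haveI := hf; Groth.FlatMor2.FibCrit.flat_of_addEquiv p.symm.toAddEquiv fun r m => p.symm.map_smul _ m,
    fun hf => haveI := hf; Groth.FlatMor2.FibCrit.flat_of_addEquiv p.toAddEquiv fun r m => p.map_smul _ m⟩

end Groth.FlatMor2.RelFlatLocus
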