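import Groth.Agent.FlatMor2.RelFlatLocus.Fibre
import Groth.Agent.FlatMor2.FibCrit.SchemeCrit
import Groth.Agent.FlatMor2.FibCrit.Fibrewise
import Groth.Agent.FlatMorOne.FlatBaseChangeScheme
import Groth.Agent.FlatMorOne.FlatLocusScheme
import Groth.Agent.FlatMorOne.GoodLocus
import Groth.Agent.AlgSp2.FlatFibreScheme

/-!
# The relative flat locus of a module flat over the base
-/

set_option autoImplicit false
set_option linter.style.haveILetI false
set_option linter.unusedVariables false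

universe u

open CategoryTheory CategoryTheory.Limits AlgebraicGeometry

namespace Groth.FlatMor2.RelFlatLocus

/-- Flatness over a target is flatness over a flat base of it. -/
theorem isFlatOverAt_comp_of_flat {X Y S : Scheme.{u}} (f : X ⟶ Y) (g : Y ⟶ S) (M : X.Modules) (x : X)
    (hg : (g.stalkMap (f x)).hom.Flat) (h : FlatMod.IsFlatOverAt f M x) :
    FlatMod.IsFlatOverAt (f ≫ g) M x := by
  let := (g.stalkMap (f x)).hom.toAlgebra
  let := FlatMod.moduleStalkOver f M x
  let := FlatMod.moduleStalkOver (f ≫ g) M x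
  let : Module (S.presheaf.stalk (g (f x))) (M.presheaf.stalk x) :=
    FlatMod.moduleStalkOver (f ≫ g) M x
  have : IsScalarTower (S.presheaf.stalk (g (f x))) (Y.presheaf.stalk (f x))
      (M.presheaf.stalk x) := .of_algebraMap_smul fun r m => by
    change f.stalkMap x (g.stalkMap (f x) r) • m = (f ≫ g).stalkMap x r • m
    rw [Scheme.Hom.stalkMap_comp]
    rfl
  have : Module.Flat (Y.presheaf.stalk (f x)) (M.presheaf.stalk x) := h
  have : Module.Flat (S.presheaf.stalk (g (f x))) (Y.presheaf.stalk (f x)) := hg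
  exact Module.Flat.trans (S.presheaf.stalk (g (f x))) (Y.presheaf.stalk (f x)) _

variable {X Y S : Scheme.{u}} (f : X ⟶ Y) (g : Y ⟶ S) (F : X.Modules) [F.IsQuasicoherent]

theorem isOpen_flatLocus [LocallyOfFinitePresentation (f ≫ g)] [LocallyOfFiniteType g]
    (hfp : CohB1.IsFP F) : IsOpen {x : X | FlatMod.IsFlatOverAt f F x} := by
  haveI : LocallyOfFinitePresentation f := Groth.SpectralTopology.lfp_of_comp f g
  exact Groth.FlatMorOne.isOpen_isFlatOverAt f F hfp

/-- Relative flatness descends along any change of base. -/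
theorem isFlatOverAt_of_baseChange [LocallyOfFinitePresentation (f ≫ g)] [LocallyOfFiniteType g]
    (hfp : CohB1.IsFP F) (hfl : FlatMod.IsFlatOver (f ≫ g) F) {X' Y' S' : Scheme.{u}} {h : S' ⟶ S}
    {gY : Y' ⟶ Y} {g' : Y' ⟶ S'} (hY : IsPullback gY g' g h) {gX : X' ⟶ X} {f' : X' ⟶ Y'}
    (hX : IsPullback gX (f' ≫ g') (f ≫ g) h) (w : gX ≫ f = f' ≫ gY) (x' : X')
    (hx' : FlatMod.IsFlatOverAt f' ((Scheme.Modules.pullback gX).obj F) x') :
    FlatMod.IsFlatOverAt f F (gX x') := by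
  rcases subsingleton_or_nontrivial (F.presheaf.stalk (gX x')) with hs | hnt
  · letI := FlatMod.moduleStalkOver f F (gX x')
    exact inferInstanceAs (Module.Flat _ _)
  let s' := g' (f' x')
  let s := h s'
  obtain ⟨qU, hqU, qU₁, qU₂⟩ := Groth.AlgSp2.FlatFib.exists_fibre_map hX s'
  obtain ⟨qV, hqV, qV₁, qV₂⟩ := Groth.AlgSp2.FlatFib.exists_fibre_map hY s'
  have e₁ : MoreMor.fiberMap f g s ≫ g.fiberι s = (f ≫ g).fiberι s ≫ f := pullback.lift_fst _ _ _
  have e₂ : MoreMor.fiberMap f g s ≫ g.fiberToSpecResidueField s =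
      (f ≫ g).fiberToSpecResidueField s := pullback.lift_snd _ _ _
  have e₃ : MoreMor.fiberMap f' g' s' ≫ g'.fiberι s' = (f' ≫ g').fiberι s' ≫ f' :=
    pullback.lift_fst _ _ _
  have e₄ : MoreMor.fiberMap f' g' s' ≫ g'.fiberToSpecResidueField s' =
      (f' ≫ g').fiberToSpecResidueField s' := pullback.lift_snd _ _ _
  have e : qU ≫ MoreMor.fiberMap f g s = MoreMor.fiberMap f' g' s' ≫ qV := by
    refine (IsPullback.of_hasPullback g (S.fromSpecResidueField _)).hom_ext ?_ ?_
    · change (qU ≫ _) ≫ g.fiberι _ = (_ ≫ qV) ≫ g.fiberι _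
      rw [Category.assoc, e₁, reassoc_of% qU₁, Category.assoc, qV₁, reassoc_of% e₃, w]
    · change (qU ≫ _) ≫ g.fiberToSpecResidueField _ = (_ ≫ qV) ≫ g.fiberToSpecResidueField _
      rw [Category.assoc, e₂, qU₂, Category.assoc, qV₂, reassoc_of% e₄]
  let F' := (Scheme.Modules.pullback gX).obj F
  let z₀ : (f' ≫ g').fiber s' := (f' ≫ g').asFiber x'
  have hι' : (f' ≫ g').fiberι s' z₀ = x' := Scheme.Hom.fiberι_asFiber (f' ≫ g') x'
  have h1 : FlatMod.IsFlatOverAt (MoreMor.fiberMap f' g' s')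
      ((Scheme.Modules.pullback ((f' ≫ g').fiberι s')).obj F') z₀ :=
    Groth.FlatMorOne.isFlatOverAt_baseChange (Groth.AlgSp2.FlatFib.isPullback_fiberMap f' g' s') F' z₀
      (by rw [hι']; exact hx')
  have h2 := isFlatOverAt_comp_of_flat _ qV _ z₀ (Flat.stalkMap qV _) h1
  let I : (Scheme.Modules.pullback ((f' ≫ g').fiberι s')).obj F' ≅
      (Scheme.Modules.pullback qU).obj ((Scheme.Modules.pullback ((f ≫ g).fiberι s)).obj F) :=
    (Scheme.Modules.pullbackComp ((f' ≫ g').fiberι s') gX).app F ≪≫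
      (Scheme.Modules.pullbackCongr qU₁.symm).app F ≪≫
      (Scheme.Modules.pullbackComp qU ((f ≫ g).fiberι s)).symm.app F
  rw [Groth.FlatMorOne.isFlatOverAt_congr _ I, ← e,
    ← Groth.Flatmor4.isFlatOverAt_pullback_iff qU _ _ z₀ (Flat.stalkMap qU z₀)] at h2
  have hι : (f ≫ g).fiberι s (qU z₀) = gX x' := by
    rw [← Scheme.Hom.comp_apply, qU₁, Scheme.Hom.comp_apply, hι']
  have h3 := (fiberMap_module_flat_iff f g s F (qU z₀) (gX x') hι).1 h2
  exact ((Groth.FlatMor2.FibCrit.module_iff f g F hfp (gX x') hnt).1 ⟨hfl _, h3⟩).2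

/-- The relative flat locus is open and its formation commutes with base change. -/
theorem isOpen_and_baseChange [LocallyOfFinitePresentation (f ≫ g)] [LocallyOfFiniteType g]
    (hfp : CohB1.IsFP F) (hfl : FlatMod.IsFlatOver (f ≫ g) F) :
    IsOpen {x : ↑X | FlatMod.IsFlatOverAt f F x} ∧
      ∀ {X' Y' S' : Scheme.{u}} (h : S' ⟶ S) (gY : Y' ⟶ Y) (g' : Y' ⟶ S') (_ : IsPullback gY g' g h)
        (gX : X' ⟶ X) (f' : X' ⟶ Y') (_ : IsPullback gX (f' ≫ g') (f ≫ g) h) (_ : gX ≫ f = f' ≫ gY),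
        {x' : ↑X' | FlatMod.IsFlatOverAt f' ((Scheme.Modules.pullback gX).obj F) x'} =
          gX ⁻¹' {x : ↑X | FlatMod.IsFlatOverAt f F x} :=
  ⟨isOpen_flatLocus f g F hfp, fun h gY g' hY gX f' hX w => Set.ext fun x' =>
    ⟨fun hx' => isFlatOverAt_of_baseChange f g F hfp hfl hY hX w x' hx',
      fun hx => Groth.FlatMorOne.isFlatOverAt_baseChange (IsPullback.of_bot hX w hY) F x' hx⟩⟩

end Groth.FlatMor2.RelFlatLocus
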